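import Cfsg.Agent.FischerThm.Conv.Glue
import Cfsg.Agent.Forms.Symplectic
import Cfsg.Agent.NormalCover.SympCenter

/-!
# Models of the symplectic transvections over the field with two elements
-/

set_option autoImplicit false

namespace CfsgLib.FischerThm.Conv

open Matrix Module CfsgLib.Forms

variable {m : ℕ}

local notation "V" => Fin m ⊕ Fin m → ZMod 2

theorem two_cases (x : ZMod 2) : x = 0 ∨ x = 1 := by revert x; decide

theorem spTransv_apply (w x : V) :
    (spTransv w 1).1 *ᵥ x = x + Cfsg.sympForm m (ZMod 2) x w • w := by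
  show Cfsg.sympTransvection m w 1 *ᵥ x = _
  rw [sympTransvection_mulVec, one_mul]

theorem rank_spTransv {w : V} (hw : w ≠ 0) :
    ((spTransv w 1).1 - 1 : Matrix (Fin m ⊕ Fin m) (Fin m ⊕ Fin m) (ZMod 2)).rank = 1 := by
  have e : LinearMap.range ((spTransv w 1).1 - 1).mulVecLin = ZMod 2 ∙ w := by
    have hx : ∀ x, ((spTransv w 1).1 - 1) *ᵥ x = Cfsg.sympForm m (ZMod 2) x w • w := fun x => by
      rw [Matrix.sub_mulVec, Matrix.one_mulVec, spTransv_apply, add_sub_cancel_left]
    refine le_antisymm ?_ (Submodule.span_le.2 (Set.singleton_subset_iff.2 ?_))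
    · rintro _ ⟨x, rfl⟩
      rw [Matrix.mulVecLin_apply, hx]
      exact Submodule.smul_mem _ _ (Submodule.mem_span_singleton_self w)
    · obtain ⟨x, hx'⟩ : ∃ x, Cfsg.sympForm m (ZMod 2) x w ≠ 0 := by
        by_contra h
        push Not at h
        exact hw (sympForm_sep w fun x => by rw [sympForm_swap, h, neg_zero])
      exact ⟨x, by rw [Matrix.mulVecLin_apply, hx, (two_cases _).resolve_left hx', one_smul]⟩
  rw [Matrix.rank, e, finrank_span_singleton hw]

theorem exists_spTransv_of_rank {g : Matrix.symplecticGroup (Fin m) (ZMod 2)}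
    (h : (g.1 - 1 : Matrix (Fin m ⊕ Fin m) (Fin m ⊕ Fin m) (ZMod 2)).rank = 1) :
    ∃ w : V, w ≠ 0 ∧ g = spTransv w 1 := by
  obtain ⟨⟨a, ha⟩, ha0, hspan⟩ := finrank_eq_one_iff'.1 h
  have hane : a ≠ 0 := fun e => ha0 (Subtype.ext e)
  have hcoef : ∀ x, ∃ c : ZMod 2, g.1 *ᵥ x = x + c • a := fun x => by
    obtain ⟨c, hc⟩ := hspan ⟨_, LinearMap.mem_range_self ((g.1 - 1).mulVecLin) x⟩
    have hc' : c • a = (g.1 - 1) *ᵥ x := congrArg Subtype.val hc
    exact ⟨c, by rw [hc', Matrix.sub_mulVec, Matrix.one_mulVec, add_sub_cancel]⟩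
  choose φ hφ using hcoef
  obtain ⟨x₀, hx₀⟩ := LinearMap.mem_range.1 ha
  have h1 : φ x₀ = 1 := (two_cases _).resolve_left fun e => hane (by
    rw [← hx₀, Matrix.mulVecLin_apply, Matrix.sub_mulVec, Matrix.one_mulVec, hφ, e, zero_smul,
      add_zero, sub_self])
  have hrel : ∀ x y, φ x * Cfsg.sympForm m (ZMod 2) a y + φ y * Cfsg.sympForm m (ZMod 2) x a = 0 := by
    intro x y
    have := sympForm_map g x y
    rw [hφ, hφ] at this
    simp only [← sympBilin_apply, map_add, map_smul, LinearMap.add_apply, LinearMap.smul_apply,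
      smul_eq_mul, sympBilin_isAlt a] at this ⊢
    linear_combination this
  have hall : ∀ y, Cfsg.sympForm m (ZMod 2) a y = φ y * Cfsg.sympForm m (ZMod 2) x₀ a := fun y => by
    have := hrel x₀ y
    rw [h1, one_mul] at this
    exact CharTwo.add_eq_zero.1 this
  have hk : Cfsg.sympForm m (ZMod 2) x₀ a = 1 := (two_cases _).resolve_left fun e =>
    hane (sympForm_sep a fun y => by rw [hall, e, mul_zero])
  refine ⟨a, hane, sp_ext fun x => ?_⟩
  rw [spTransv_apply, hφ, sympForm_swap, hall, hk, mul_one, CharTwo.neg_eq]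

theorem conj_spTransv (g : Matrix.symplecticGroup (Fin m) (ZMod 2)) (w : V) :
    g * spTransv w 1 * g⁻¹ = spTransv (g.1 *ᵥ w) 1 := by
  rw [mul_inv_eq_iff_eq_mul]
  refine sp_ext fun x => ?_
  simp only [Submonoid.coe_mul, ← Matrix.mulVec_mulVec, spTransv_apply, Matrix.mulVec_add,
    Matrix.mulVec_smul, sympForm_map]

theorem spTransv_inj {v w : V} (hv : v ≠ 0) (h : spTransv v 1 = spTransv w 1) : v = w := by
  obtain ⟨x, hx⟩ : ∃ x, Cfsg.sympForm m (ZMod 2) x v ≠ 0 := by
    by_contra h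
    push Not at h
    exact hv (sympForm_sep v fun x => by rw [sympForm_swap, h, neg_zero])
  have e := congrArg (fun A : Matrix.symplecticGroup (Fin m) (ZMod 2) => A.1 *ᵥ x) h
  simp only [spTransv_apply, add_right_inj] at e
  rw [(two_cases _).resolve_left hx, one_smul] at e
  rcases two_cases (Cfsg.sympForm m (ZMod 2) x w) with h' | h' <;> rw [h'] at e
  · exact absurd (e.trans (zero_smul _ _)) hv
  · exact e.trans (one_smul _ _)

theorem spModel {N : ℕ} {t : Fin N → Fin N → Fin N} (vec : Fin N → V)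
    (hne : ∀ i, vec i ≠ 0) (hall : ∀ v, v ≠ 0 → ∃ i, vec i = v)
    (hinj : ∀ i j, vec i = vec j → i = j)
    (hconj : ∀ i j, vec j + Cfsg.sympForm m (ZMod 2) (vec j) (vec i) • vec i = vec (t i j)) :
    Model (spD m) t (fun i => spTransv (vec i) 1) := by
  refine ⟨fun i j h => hinj i j (spTransv_inj (hne i) h), ?_, ?_, fun i j => ?_⟩
  · refine Set.Subset.antisymm ?_ fun g hg => ?_
    · rintro _ ⟨i, rfl⟩
      exact rank_spTransv (hne i)
    · obtain ⟨w, hw, rfl⟩ := exists_spTransv_of_rank hg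
      obtain ⟨i, rfl⟩ := hall w hw
      exact ⟨i, rfl⟩
  · rw [eq_top_iff, ← transvGroup_eq_top, transvGroup, Subgroup.closure_le]
    rintro _ ⟨w, -, c, rfl⟩
    by_cases h : w = 0 ∨ c = 0
    · have : spTransv w c = 1 := sp_ext fun x => by
        show Cfsg.sympTransvection m w c *ᵥ x = (1 : Matrix _ _ (ZMod 2)) *ᵥ x
        rw [sympTransvection_mulVec, Matrix.one_mulVec]
        rcases h with rfl | rfl <;> simp
      rw [this]
      exact one_mem _
    · push Not at h
      rw [(two_cases c).resolve_left h.2]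
      exact Subgroup.subset_closure (rank_spTransv h.1)
  · show spTransv (vec i) 1 * spTransv (vec j) 1 * (spTransv (vec i) 1)⁻¹ = _
    rw [conj_spTransv, spTransv_apply, hconj]

theorem center_sp (hm : 0 < m) :
    Subgroup.center (Matrix.symplecticGroup (Fin m) (ZMod 2)) = ⊥ := by
  rw [eq_bot_iff]
  intro z hz
  obtain ⟨c, hc, hc2⟩ := CfsgLib.NormalCover.sp_scalar_of_center hz
  have hc1 : c = 1 := (two_cases c).resolve_left fun e => by simpa [e] using hc2 hm
  rw [Subgroup.mem_bot]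
  exact sp_ext fun x => by rw [hc, hc1, one_smul]; exact (Matrix.one_mulVec x).symm

end CfsgLib.FischerThm.Conv
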