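import Cfsg.Agent.FischerThm.Conv.Glue

/-!
# Models of the transpositions
-/

set_option autoImplicit false

namespace CfsgLib.FischerThm.Conv

open Equiv

theorem pair_of_swap_eq {n : ℕ} {p q p' q' : Fin n} (hpq : p ≠ q) (h : swap p q = swap p' q') :
    (p = p' ∧ q = q') ∨ (p = q' ∧ q = p') := by
  have e := congrArg (fun σ : Perm (Fin n) => σ p) h
  simp only [swap_apply_left, swap_apply_def] at e
  split_ifs at e with h1 h2
  · exact Or.inl ⟨h1, e⟩
  · exact Or.inr ⟨h2, e⟩
  · exact absurd e.symm hpq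

theorem symModel {n N : ℕ} {t : Fin N → Fin N → Fin N} (p q : Fin N → Fin n)
    (hlt : ∀ i, p i < q i) (hall : ∀ x y, x < y → ∃ i, p i = x ∧ q i = y)
    (hinj : ∀ i j, p i = p j → q i = q j → i = j)
    (hconj : ∀ i j,
      (swap (p i) (q i) (p j) = p (t i j) ∧ swap (p i) (q i) (q j) = q (t i j)) ∨
      (swap (p i) (q i) (p j) = q (t i j) ∧ swap (p i) (q i) (q j) = p (t i j))) :
    Model (symD n) t (fun i => swap (p i) (q i)) := by
  refine ⟨fun i j h => ?_, ?_, Equiv.Perm.closure_isSwap, fun i j => ?_⟩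
  · rcases pair_of_swap_eq (hlt i).ne h with ⟨h1, h2⟩ | ⟨h1, h2⟩
    · exact hinj i j h1 h2
    · have := hlt i
      rw [h1, h2] at this
      exact absurd this (hlt j).asymm
  · refine Set.Subset.antisymm ?_ ?_
    · rintro _ ⟨i, rfl⟩
      exact ⟨p i, q i, (hlt i).ne, rfl⟩
    · rintro σ ⟨x, y, hxy, rfl⟩
      rcases lt_or_gt_of_ne hxy with h | h
      · obtain ⟨i, h1, h2⟩ := hall x y h
        exact ⟨i, by simp only [h1, h2]⟩
      · obtain ⟨i, h1, h2⟩ := hall y x h
        exact ⟨i, by simp only [h1, h2, swap_comm]⟩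
  · show swap (p i) (q i) * swap (p j) (q j) * (swap (p i) (q i))⁻¹ = _
    rw [← swap_apply_apply]
    rcases hconj i j with ⟨h1, h2⟩ | ⟨h1, h2⟩
    · rw [h1, h2]
    · rw [h1, h2, swap_comm]

theorem center_perm {n : ℕ} (hn : 3 ≤ n) : Subgroup.center (Perm (Fin n)) = ⊥ := by
  rw [eq_bot_iff]
  intro x hx
  rw [Subgroup.mem_bot]
  refine Equiv.ext fun i => ?_
  rw [Perm.one_apply]
  by_contra hne
  obtain ⟨k, -, hk⟩ : ∃ k ∈ (Finset.univ : Finset (Fin n)), k ∉ ({i, x i} : Finset (Fin n)) :=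
    Finset.exists_mem_notMem_of_card_lt_card (lt_of_le_of_lt Finset.card_le_two
      (by rw [Finset.card_univ, Fintype.card_fin]; omega))
  simp only [Finset.mem_insert, Finset.mem_singleton, not_or] at hk
  have h1 := congrArg (fun e : Perm (Fin n) => e i) (Subgroup.mem_center_iff.1 hx (swap (x i) k))
  simp only [Perm.mul_apply] at h1
  rw [swap_apply_left, swap_apply_of_ne_of_ne (Ne.symm hne) (Ne.symm hk.1)] at h1
  exact hk.2 h1

end CfsgLib.FischerThm.Conv
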