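import Cfsg.Agent.FischerThm.Conv.Glue
import Cfsg.Agent.FormTranspositions.Orthogonal

/-!
# Models of the orthogonal transvections over the field with two elements
-/

set_option autoImplicit false

namespace CfsgLib.FischerThm.Conv

open Module QuadraticMap CfsgLib.Dickson CfsgLib.FormTranspositions
open scoped Matrix

variable {ι : Type} [Fintype ι] [DecidableEq ι] {f : (ι → ZMod 2) → ZMod 2}

/-- The elements with a fixed space of codimension one. -/
def orthD (f : (ι → ZMod 2) → ZMod 2) : Set ↥(Cfsg.isometryGroup (ZMod 2) f) :=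
  {g | (((g : GL ι (ZMod 2)) : Matrix ι ι (ZMod 2)) - 1).rank = 1}

variable {Q : QuadraticForm (ZMod 2) (ι → ZMod 2)}

/-- The transvection in a vector of norm one, as a matrix isometry. -/
noncomputable def oTransv (v : ι → ZMod 2) (hv : Q v = 1) : ↥(Cfsg.isometryGroup (ZMod 2) ⇑Q) :=
  (toOrth Q).symm (refl v hv)

theorem toOrth_oTransv (v : ι → ZMod 2) (hv : Q v = 1) : toOrth Q (oTransv v hv) = refl v hv :=
  (toOrth Q).apply_symm_apply _

theorem refl_inj {v w : ι → ZMod 2} (hQ : (polarBilin Q).Nondegenerate) (hv : Q v = 1) (hw : Q w = 1)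
    (h : (refl v hv : orth Q) = refl w hw) : v = w := by
  have hv0 : v ≠ 0 := fun e => by rw [e, QuadraticMap.map_zero] at hv; exact zero_ne_one hv
  obtain ⟨x, hx⟩ : ∃ x, polar Q v x ≠ 0 := by
    by_contra h
    push Not at h
    exact hv0 (hQ.1 v h)
  have e := congrArg (fun g : orth Q => disp g x) h
  simp only [disp_refl] at e
  rw [(zmod_two_cases _).resolve_left hx, one_smul] at e
  rcases zmod_two_cases (polar Q w x) with h' | h' <;> rw [h'] at e
  · exact absurd (e.trans (zero_smul _ _)) hv0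
  · exact e.trans (one_smul _ _)

theorem orthModel {N : ℕ} {t : Fin N → Fin N → Fin N} (hf : ⇑Q = f)
    (hQ : (polarBilin Q).Nondegenerate) (h5 : 5 ≤ Fintype.card ι) (vec : Fin N → ι → ZMod 2)
    (hone : ∀ i, f (vec i) = 1) (hall : ∀ v, f v = 1 → ∃ i, vec i = v)
    (hinj : ∀ i j, vec i = vec j → i = j)
    (hconj : ∀ i j, vec j + polar f (vec i) (vec j) • vec i = vec (t i j))
    (hspan : ∀ k, ∃ i j, (Pi.single k 1 : ι → ZMod 2) = vec i ∨ Pi.single k 1 = vec i + vec j) :
    (∃ a, Model (orthD f) t a) ∧ Subgroup.center ↥(Cfsg.isometryGroup (ZMod 2) f) = ⊥ := by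
  subst hf
  obtain ⟨-, -, hgen⟩ := isometry_three_transposition_class Q _ rfl hQ h5
  refine ⟨⟨fun i => oTransv (vec i) (hone i), fun i j h => ?_, ?_, hgen, fun i j => ?_⟩, ?_⟩
  · have e := congrArg (toOrth Q) h
    simp only [toOrth_oTransv] at e
    exact hinj i j (refl_inj hQ _ _ e)
  · refine Set.Subset.antisymm ?_ fun g hg => ?_
    · rintro _ ⟨i, rfl⟩
      show _ = 1
      rw [rank_eq_finrank_disp, toOrth_oTransv]
      exact finrank_disp_refl hQ _ _
    · change _ = 1 at hg
      rw [rank_eq_finrank_disp] at hg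
      obtain ⟨x, hx, he⟩ := exists_refl_of_finrank hQ _ hg
      obtain ⟨i, rfl⟩ := hall x hx
      exact ⟨i, (toOrth Q).injective ((toOrth_oTransv _ _).trans he.symm)⟩
  · apply (toOrth Q).injective
    simp only [map_mul, map_inv, toOrth_oTransv]
    rw [conj_refl]
    exact refl_congr _ _ (by rw [refl_apply, hconj])
  · rw [eq_bot_iff]
    intro g hg
    rw [Subgroup.mem_bot]
    have hfix : ∀ i, (g : GL ι (ZMod 2)).1 *ᵥ vec i = vec i := by
      intro i
      have e : toOrth Q g * refl (vec i) (hone i) * (toOrth Q g)⁻¹ = refl (vec i) (hone i) := by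
        rw [← toOrth_oTransv (vec i) (hone i), ← map_inv, ← map_mul, ← map_mul,
          ← Subgroup.mem_center_iff.1 hg, mul_inv_cancel_right]
      rw [conj_refl] at e
      exact refl_inj hQ _ _ e
    refine Subtype.ext (Units.ext (Matrix.ext fun r k => ?_))
    have hk : (g : GL ι (ZMod 2)).1 *ᵥ Pi.single k 1 = Pi.single k 1 := by
      obtain ⟨i, j, h | h⟩ := hspan k
      · rw [h, hfix]
      · rw [h, Matrix.mulVec_add, hfix, hfix]
    have h1 := congrFun hk r
    rw [Matrix.mulVec_single_one] at h1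
    show ((g : GL ι (ZMod 2)) : Matrix ι ι (ZMod 2)) r k = (1 : Matrix ι ι (ZMod 2)) r k
    rw [Matrix.one_apply]
    simpa [Pi.single_apply] using h1

end CfsgLib.FischerThm.Conv
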