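import Cfsg.Agent.FischerThm.Conv.Glue
import Cfsg.Agent.Transpositions.ReflectionsModThree

/-!
# Models of the reflections of norm one over the field with three elements
-/

set_option autoImplicit false

namespace CfsgLib.FischerThm.Conv

open Matrix CfsgLib.Spinor CfsgLib.Transpositions

/-- The diagonal form, computably. -/
def sQ (n : ℕ) (s : ZMod 3) (v : Fin n → ZMod 3) : ZMod 3 :=
  ∑ k, (if k.val = 0 then s else 1) * (v k * v k)

/-- Its polar form, computably. -/
def sB (n : ℕ) (s : ZMod 3) (u v : Fin n → ZMod 3) : ZMod 3 :=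
  2 * ∑ k, (if k.val = 0 then s else 1) * (u k * v k)

theorem stdQ_apply (n : ℕ) (s : ZMod 3) (v : Fin n → ZMod 3) : stdQ n s v = sQ n s v := by
  simp [stdQ, sQ, QuadraticMap.weightedSumSquares_apply]

theorem polar_stdQ (n : ℕ) (s : ZMod 3) (u v : Fin n → ZMod 3) :
    QuadraticMap.polar (⇑(stdQ n s)) u v = sB n s u v := by
  simp only [QuadraticMap.polar, stdQ_apply, sQ, sB, Pi.add_apply, Finset.mul_sum,
    ← Finset.sum_sub_distrib]
  exact Finset.sum_congr rfl fun k _ => by ring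

/-- The reflection in a vector of norm one. -/
def sRefl {n : ℕ} {s : ZMod 3} (v : Fin n → ZMod 3) (hv : stdQ n s v = 1) :
    ↥(Cfsg.reflectionSubgroup (⇑(stdQ n s)) 1) :=
  classRefl one_ne_zero v hv

theorem sRefl_congr {n : ℕ} {s : ZMod 3} {u v : Fin n → ZMod 3} (hu : stdQ n s u = 1)
    (hv : stdQ n s v = 1) (h : v = u ∨ v = -u) : sRefl v hv = sRefl u hu :=
  classRefl_eq_of_polar_ne one_ne_zero hu hv h

theorem sRefl_inj {n : ℕ} {s : ZMod 3} {u v : Fin n → ZMod 3} (hu : stdQ n s u = 1)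
    (hv : stdQ n s v = 1) (h : sRefl u hu = sRefl v hv) : v = u ∨ v = -u := by
  have e : Cfsg.reflectionMatrix (⇑(stdQ n s)) u *ᵥ u =
      Cfsg.reflectionMatrix (⇑(stdQ n s)) v *ᵥ u :=
    congrArg (fun g : ↥(Cfsg.reflectionSubgroup (⇑(stdQ n s)) 1) => mat (stdQ n s) g.1 *ᵥ u) h
  rw [reflectionMatrix_mulVec, reflectionMatrix_mulVec, refl_apply, refl_apply, hu, hv, inv_one,
    one_mul, one_mul, polar_self', hu, mul_one, sub_right_inj] at e
  rcases zmod_three_cases (QuadraticMap.polar (⇑(stdQ n s)) v u) with h' | h' | h' <;> rw [h'] at e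
  · rw [zero_smul] at e
    have : u = 0 := (smul_eq_zero.1 e).resolve_left two_ne_zero_zmod_three
    rw [this, QuadraticMap.map_zero] at hu
    exact absurd hu zero_ne_one
  · right
    rw [one_smul] at e
    rw [← e, show (2 : ZMod 3) = -1 from rfl, neg_one_smul]
  · left
    rw [neg_one_smul, show (2 : ZMod 3) = -1 from rfl, neg_one_smul] at e
    exact (neg_injective e).symm

theorem conj_sRefl {n : ℕ} {s : ZMod 3} (u v : Fin n → ZMod 3) (hu : stdQ n s u = 1)
    (hv : stdQ n s v = 1) (hw : stdQ n s (v - sB n s u v • u) = 1) :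
    sRefl u hu * sRefl v hv * (sRefl u hu)⁻¹ = sRefl (v - sB n s u v • u) hw := by
  apply Subtype.ext
  have hu0 : stdQ n s u ≠ 0 := by rw [hu]; exact one_ne_zero
  have hv0 : stdQ n s v ≠ 0 := by rw [hv]; exact one_ne_zero
  have hw0 : stdQ n s (v - sB n s u v • u) ≠ 0 := by rw [hw]; exact one_ne_zero
  show reflIso (stdQ n s) u hu0 * reflIso (stdQ n s) v hv0 * (reflIso (stdQ n s) u hu0)⁻¹ =
    reflIso (stdQ n s) (v - sB n s u v • u) hw0
  rw [conj_reflIso]
  refine mat_ext _ ?_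
  simp only [mat_reflIso, reflectionMatrix_mulVec, refl_apply, hu, inv_one, one_mul, polar_stdQ]

theorem reflModel {n N : ℕ} {s : ZMod 3} {t : Fin N → Fin N → Fin N} (vec : Fin N → Fin n → ZMod 3)
    (hone : ∀ i, sQ n s (vec i) = 1) (hall : ∀ v, sQ n s v = 1 → ∃ i, v = vec i ∨ v = -vec i)
    (hinj : ∀ i j, vec j = vec i ∨ vec j = -vec i → i = j)
    (hconj : ∀ i j, vec j - sB n s (vec i) (vec j) • vec i = vec (t i j) ∨
      vec j - sB n s (vec i) (vec j) • vec i = -vec (t i j)) :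
    ∃ a, Model (reflClass (stdQ n s) 1) t a := by
  have h1 : ∀ i, stdQ n s (vec i) = 1 := fun i => by rw [stdQ_apply, hone]
  refine ⟨fun i => sRefl (vec i) (h1 i), fun i j h => hinj i j (sRefl_inj _ _ h), ?_,
    Subgroup.closure_closure_coe_preimage, fun i j => ?_⟩
  · refine Set.Subset.antisymm ?_ fun g hg => ?_
    · rintro _ ⟨i, rfl⟩
      exact classRefl_mem one_ne_zero _ _
    · obtain ⟨v, hv, rfl⟩ := exists_eq_classRefl one_ne_zero hg
      obtain ⟨i, hi⟩ := hall v (by rw [← stdQ_apply, hv])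
      exact ⟨i, (sRefl_congr (h1 i) hv hi).symm⟩
  · have hw : stdQ n s (vec j - sB n s (vec i) (vec j) • vec i) = 1 := by
      rcases hconj i j with h | h <;> rw [h]
      · exact h1 _
      · rw [QuadraticMap.map_neg]; exact h1 _
    exact (conj_sRefl _ _ _ _ hw).trans (sRefl_congr (h1 _) hw (hconj i j))

theorem cImg_reflClass (n : ℕ) (s : ZMod 3) : cImg (reflClass (stdQ n s) 1) = reflD n s := rfl

end CfsgLib.FischerThm.Conv
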