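import Cfsg.Agent.FischerThm.Conv.Glue
import Cfsg.Agent.FormTranspositions.Unitary
import Cfsg.Agent.Linear.SmallFields

/-!
# Models of the unitary transvections over the field with four elements
-/

set_option autoImplicit false

namespace CfsgLib.FischerThm.Conv

open Matrix CfsgLib.RepBounds.Unit CfsgLib.FormTranspositions CfsgLib.Linear

/-- The Hermitian form over the model field, computably. -/
def gH {n : ℕ} (u v : Fin n → GF4) : GF4 := ∑ k, u k * (v k * v k)

theorem Model.map {G : Type*} [Group G] {H : Type*} [Group H] {N : ℕ} {D : Set G}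
    {t : Fin N → Fin N → Fin N} {a : Fin N → G} (h : Model D t a) (e : G ≃* H) :
    Model (e '' D) t (e ∘ a) := by
  refine ⟨e.injective.comp h.inj, by rw [Set.range_comp, h.range], ?_, fun i j => ?_⟩
  · rw [← e.coe_toMonoidHom, ← MonoidHom.map_closure, h.gen,
      Subgroup.map_top_of_surjective _ e.surjective]
  · simp only [Function.comp_apply, ← map_mul, ← map_inv, h.conj]

theorem uniModel {F : Type} [Field F] [Fintype F] (hF : Fintype.card F = 4) {n N : ℕ} (hn : 4 ≤ n)
    {t : Fin N → Fin N → Fin N} (vec : Fin N → Fin n → GF4)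
    (hone : ∀ i, vec i ≠ 0 ∧ gH (vec i) (vec i) = 0)
    (hall : ∀ v : Fin n → GF4, v ≠ 0 → gH v v = 0 → ∃ (i : Fin N) (a : GF4), v = a • vec i)
    (hinj : ∀ (i j : Fin N) (a : GF4), vec i = a • vec j → i = j)
    (hconj : ∀ i j, ∃ a : GF4, vec j + gH (vec j) (vec i) • vec i = a • vec (t i j)) :
    ∃ a, Model {g : ↥(Cfsg.SU n F 2) |
      (((g : Matrix.SpecialLinearGroup (Fin n) F) : Matrix (Fin n) (Fin n) F) - 1).rank = 1} t a := by
  obtain ⟨C, hC⟩ := exists_conjField (F := F) 2 (by rw [hF]; norm_num)
  have e : GF4 ≃+* F := FiniteField.ringEquivOfCardEq (by rw [card_gf4, hF])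
  obtain ⟨-, hnorm, -, hskew⟩ := four_facts C hC
  let V : Fin N → Fin n → F := fun i k => e (vec i k)
  have hherm : ∀ u v : Fin n → GF4, herm C (fun k => e (u k)) (fun k => e (v k)) = e (gH u v) := by
    intro u v
    rw [herm, gH, map_sum]
    exact Finset.sum_congr rfl fun k _ => by rw [C.pow, hC, map_mul, map_mul, pow_two]
  have hV0 : ∀ i, V i ≠ 0 := fun i h => (hone i).1 (funext fun k =>
    e.injective ((congrFun h k).trans (map_zero e).symm))
  have hVV : ∀ i, herm C (V i) (V i) = 0 := fun i => by rw [hherm, (hone i).2, map_zero]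
  have hscal : ∀ (g : suG C (Fin n)) (v : Fin n → F) (i : Fin N) (a : GF4), v ≠ 0 →
      v = e a • V i → IsTransv C g v 1 → g = transvEl C (V i) 1 (hVV i) hskew := by
    intro g v i a hv h hg
    subst h
    have ha : e a ≠ 0 := fun h => hv (by rw [h, zero_smul])
    have h1 := IsTransv.smul_vec C (e a) hg
    rw [hnorm _ ha, one_mul] at h1
    exact IsTransv.unique C h1 (isTransv_transvEl C _ _ _ _)
  have hmodel : Model {g : suG C (Fin n) | ((g.1 : Matrix (Fin n) (Fin n) F) - 1).rank = 1} t
      (fun i => transvEl C (V i) 1 (hVV i) hskew) := by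
    refine ⟨fun i j h => ?_, ?_, (unitary_three_transposition_class C hC (by simpa using hn)).2.2,
      fun i j => ?_⟩
    · obtain ⟨x, hx⟩ := exists_herm_eq C (hV0 i) 1
      have h1 := isTransv_transvEl C (V i) 1 (hVV i) hskew x
      rw [show transvEl C (V i) 1 (hVV i) hskew = transvEl C (V j) 1 (hVV j) hskew from h,
        isTransv_transvEl C (V j) 1 (hVV j) hskew x, hx, one_mul, one_mul, one_smul,
        add_right_inj] at h1
      refine hinj i j (e.symm (herm C x (V j))) (funext fun k => e.injective ?_)
      rw [Pi.smul_apply, smul_eq_mul, map_mul, RingEquiv.apply_symm_apply]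
      exact (congrFun h1 k).symm
    · refine Set.Subset.antisymm ?_ fun g hg => ?_
      · rintro _ ⟨i, rfl⟩
        exact rank_one_of_isTransv C (hV0 i) (isTransv_transvEl C _ _ _ _)
      · obtain ⟨v, hv, hvv, hg⟩ := exists_isTransv_of_rank_one C hC g hg
        have hw : (fun k => e (e.symm (v k))) = v := funext fun k => e.apply_symm_apply _
        obtain ⟨i, a, hia⟩ := hall (fun k => e.symm (v k))
          (fun h => hv (by rw [← hw]; funext k; exact (congrArg e (congrFun h k)).trans (map_zero e)))
          (e.injective (by rw [← hherm, hw, hvv, map_zero]))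
        refine ⟨i, (hscal g v i a hv ?_ hg).symm⟩
        rw [← hw]
        funext k
        rw [show e.symm (v k) = a * vec i k from congrFun hia k, map_mul]
        rfl
    · obtain ⟨a, ha⟩ := hconj i j
      have hi := isTransv_transvEl C (V i) 1 (hVV i) hskew
      have h1 := IsTransv.conj C (isTransv_transvEl C (V j) 1 (hVV j) hskew)
        (transvEl C (V i) 1 (hVV i) hskew)
      have h2 : app C (transvEl C (V i) 1 (hVV i) hskew) (V j) = e a • V (t i j) := by
        rw [hi, one_mul, hherm]
        funext k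
        simp only [V, Pi.add_apply, Pi.smul_apply, smul_eq_mul, ← map_mul, ← map_add]
        exact congrArg e (congrFun ha k)
      refine hscal _ _ (t i j) a ?_ h2 h1
      intro h0
      apply hV0 j
      rw [← app_inv_app C (transvEl C (V i) 1 (hVV i) hskew) (V j), h0]
      exact Matrix.mulVec_zero _
  have hSU : suG C (Fin n) = Cfsg.SU n F 2 := by rw [suG_fin_eq C, hC]
  have h := hmodel.map (MulEquiv.subgroupCongr hSU)
  refine ⟨MulEquiv.subgroupCongr hSU ∘ fun i => transvEl C (V i) 1 (hVV i) hskew, ?_⟩
  convert h using 1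
  ext g
  constructor
  · exact fun hg => ⟨(MulEquiv.subgroupCongr hSU).symm g, hg, MulEquiv.apply_symm_apply _ g⟩
  · rintro ⟨x, hx, rfl⟩
    exact hx

end CfsgLib.FischerThm.Conv
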