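import Cfsg.Agent.FischerThm.Defs

/-!
# Generating classes with the same conjugation table

A model of `(G, D)` lists the members of `D` as `a i` and records `a i * a j * (a i)⁻¹ = a (t i j)`.
Two models with the same table give an isomorphism of the groups modulo their centres.
-/

set_option autoImplicit false

universe u v

namespace CfsgLib.FischerThm.Conv

variable {G : Type u} [Group G] {H : Type v} [Group H] {N : ℕ} {D : Set G} {E : Set H}
  {t : Fin N → Fin N → Fin N} {a : Fin N → G} {b : Fin N → H}

/-- A listing of a generating class with its conjugation table. -/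
structure Model (D : Set G) (t : Fin N → Fin N → Fin N) (a : Fin N → G) : Prop where
  inj : Function.Injective a
  range : Set.range a = D
  gen : Subgroup.closure D = ⊤
  conj : ∀ i j, a i * a j * (a i)⁻¹ = a (t i j)

/-- The image in the quotient by the centre. -/
def cImg (D : Set G) : Set (G ⧸ Subgroup.center G) :=
  (QuotientGroup.mk : G → G ⧸ Subgroup.center G) '' D

theorem dIso_cImg (h : Subgroup.center G = ⊥) : DIso D (cImg D) :=
  ⟨((QuotientGroup.quotientMulEquivOfEq h).trans QuotientGroup.quotientBot).symm,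
    Set.image_congr fun _ _ => rfl⟩

/-- The two actions on the listed members agree along the subgroup generated by the pairs. -/
theorem exists_perm (hA : Model D t a) (hB : Model E t b) {p : G × H}
    (hp : p ∈ Subgroup.closure (Set.range fun i => (a i, b i))) :
    ∃ σ : Equiv.Perm (Fin N), ∀ j, p.1 * a j * p.1⁻¹ = a (σ j) ∧ p.2 * b j * p.2⁻¹ = b (σ j) := by
  induction hp using Subgroup.closure_induction with
  | mem x hx =>
    obtain ⟨i, rfl⟩ := hx
    have hi : Function.Injective (t i) := fun j k hjk => hA.inj (by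
      have e := (hA.conj i j).trans ((congrArg a hjk).trans (hA.conj i k).symm)
      exact mul_left_cancel (mul_right_cancel e))
    exact ⟨Equiv.ofBijective (t i) (Finite.injective_iff_bijective.1 hi),
      fun j => ⟨hA.conj i j, hB.conj i j⟩⟩
  | one => exact ⟨1, fun j => by simp⟩
  | mul x y _ _ hx hy =>
    obtain ⟨σ, hσ⟩ := hx
    obtain ⟨τ, hτ⟩ := hy
    refine ⟨σ * τ, fun j => ?_⟩
    rw [Prod.fst_mul, Prod.snd_mul, Equiv.Perm.mul_apply, ← (hσ (τ j)).1, ← (hσ (τ j)).2,
      ← (hτ j).1, ← (hτ j).2]
    exact ⟨by group, by group⟩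
  | inv x _ hx =>
    obtain ⟨σ, hσ⟩ := hx
    refine ⟨σ⁻¹, fun j => ?_⟩
    have h := hσ (σ⁻¹ j)
    simp only [Equiv.Perm.coe_inv, Equiv.apply_symm_apply] at h
    constructor
    · rw [← h.1]; simp [mul_assoc]
    · rw [← h.2]; simp [mul_assoc]

/-- An element commuting with the listed members is central. -/
theorem Model.mem_center (hA : Model D t a) {g : G} (h : ∀ j, g * a j * g⁻¹ = a j) :
    g ∈ Subgroup.center G := by
  rw [Subgroup.mem_center_iff]
  intro x
  have hle : Subgroup.closure D ≤ Subgroup.centralizer ({g} : Set G) := by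
    rw [Subgroup.closure_le, ← hA.range]
    rintro _ ⟨j, rfl⟩
    exact Subgroup.mem_centralizer_singleton_iff.2 (mul_inv_eq_iff_eq_mul.1 (h j)).symm
  exact Subgroup.mem_centralizer_singleton_iff.1 (hle (hA.gen ▸ Subgroup.mem_top x))

theorem center_iff (hA : Model D t a) (hB : Model E t b) {p : G × H}
    (hp : p ∈ Subgroup.closure (Set.range fun i => (a i, b i))) (h : p.1 ∈ Subgroup.center G) :
    p.2 ∈ Subgroup.center H := by
  obtain ⟨σ, hσ⟩ := exists_perm hA hB hp
  refine hB.mem_center fun j => ?_
  have hj : σ j = j := hA.inj (by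
    rw [← (hσ j).1, ← Subgroup.mem_center_iff.1 h (a j), mul_inv_cancel_right])
  rw [(hσ j).2, hj]

theorem Model.dIso (hA : Model D t a) (hB : Model E t b) : DIso (cImg D) (cImg E) := by
  set K := Subgroup.closure (Set.range fun i => (a i, b i))
  let φ : ↥K →* G ⧸ Subgroup.center G :=
    (QuotientGroup.mk' _).comp ((MonoidHom.fst G H).comp K.subtype)
  let ψ : ↥K →* H ⧸ Subgroup.center H :=
    (QuotientGroup.mk' _).comp ((MonoidHom.snd G H).comp K.subtype)
  have hφ : Function.Surjective φ := by
    refine (QuotientGroup.mk'_surjective _).comp ?_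
    rw [← MonoidHom.range_eq_top, MonoidHom.range_comp, Subgroup.range_subtype,
      MonoidHom.map_closure, ← Set.range_comp]
    exact (congrArg Subgroup.closure hA.range).trans hA.gen
  have hψ : Function.Surjective ψ := by
    refine (QuotientGroup.mk'_surjective _).comp ?_
    rw [← MonoidHom.range_eq_top, MonoidHom.range_comp, Subgroup.range_subtype,
      MonoidHom.map_closure, ← Set.range_comp]
    exact (congrArg Subgroup.closure hB.range).trans hB.gen
  have hker : φ.ker = ψ.ker := by
    ext ⟨p, hp⟩
    rw [MonoidHom.mem_ker, MonoidHom.mem_ker]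
    change ((p.1 : G) : G ⧸ Subgroup.center G) = 1 ↔ ((p.2 : H) : H ⧸ Subgroup.center H) = 1
    rw [QuotientGroup.eq_one_iff, QuotientGroup.eq_one_iff]
    refine ⟨center_iff hA hB hp, fun h => ?_⟩
    obtain ⟨σ, hσ⟩ := exists_perm hA hB hp
    refine hA.mem_center fun j => ?_
    have hj : σ j = j := hB.inj (by
      rw [← (hσ j).2, ← Subgroup.mem_center_iff.1 h (b j), mul_inv_cancel_right])
    rw [(hσ j).1, hj]
  let e : (G ⧸ Subgroup.center G) ≃* (H ⧸ Subgroup.center H) :=
    ((QuotientGroup.quotientKerEquivOfSurjective φ hφ).symm.trans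
      (QuotientGroup.quotientMulEquivOfEq hker)).trans
        (QuotientGroup.quotientKerEquivOfSurjective ψ hψ)
  have he : ∀ i, e (a i : G ⧸ Subgroup.center G) = (b i : H ⧸ Subgroup.center H) := by
    intro i
    let x : ↥K := ⟨(a i, b i), Subgroup.subset_closure ⟨i, rfl⟩⟩
    have hx : QuotientGroup.quotientKerEquivOfSurjective φ hφ (x : ↥K ⧸ φ.ker) = φ x := rfl
    show e (φ x) = ψ x
    rw [← hx]
    simp only [e, MulEquiv.trans_apply, MulEquiv.symm_apply_apply]
    rfl
  refine ⟨e, ?_⟩
  rw [cImg, cImg, ← hA.range, ← hB.range, ← Set.range_comp, ← Set.range_comp, ← Set.range_comp]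
  exact congrArg Set.range (funext he)

/-- Models of centreless groups. -/
theorem Model.dIso_of_center (hA : Model D t a) (hG : Subgroup.center G = ⊥) (hB : Model E t b)
    (hH : Subgroup.center H = ⊥) : DIso D E :=
  ((dIso_cImg hG).trans (hA.dIso hB)).trans (dIso_cImg hH).symm

/-- A member of a conjugation table read off from packed rows. -/
def tabGet (N : ℕ) [NeZero N] (rows : List ℕ) (i j : Fin N) : Fin N :=
  Fin.ofNat N (rows.getD i.val 0 >>> (6 * j.val) % 64)

end CfsgLib.FischerThm.Conv
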